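import Cfsg.Agent.H13.M22.FiveThree
import Cfsg.Agent.H906.T14SixF

/-!
# Cores as covers acting with scalar kernel (helper13)
-/

set_option autoImplicit false
set_option linter.unusedSectionVars false

namespace Cfsg.Agent.H13.M22

open Module Cfsg Cfsg.Geo H915.LD Cfsg.Agent.H906 Cfsg.Agent.H906.Wt

universe u v

variable {ι : Type} [Fintype ι] [DecidableEq ι] {F : Type u} [Field F] {P : Subgroup (GL ι F)}
  {T : Type v} [Group T]

/-- the projection of the core -/
abbrev phT (e : Soc P ≃* T) : P →* T := e.toMonoidHom.comp (toSoc P)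

variable (e : Soc P ≃* T)

lemma phT_surj : Function.Surjective (phT e) := e.surjective.comp (toSoc_surjective P)

lemma phT_ker : (phT e).ker = (scalars ι F).subgroupOf P := ker_comp e

lemma phT_cen : (phT e).ker ≤ Subgroup.center P := by
  rw [phT_ker e]
  exact H915.LD.scalars_le_center (P := P)

lemma phT_scalar {z : P} (hz : z ∈ (phT e).ker) : ∃ c : F, c ≠ 0 ∧ ((z : GL ι F) : Matrix ι ι F) = c • 1 := by
  rw [phT_ker e, Subgroup.mem_subgroupOf, mem_scalars_iff] at hz
  obtain ⟨c, hc⟩ := hz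
  exact ⟨c, c.ne_zero, hc⟩

lemma phT_pow (hC : Core P) {z : P} (hz : z ∈ (phT e).ker) : z ^ Fintype.card ι = 1 := by
  rw [phT_ker e] at hz
  exact hC.pow_card hz

lemma phT_rep {z : P} (hz : z ∈ (phT e).ker) : ∃ c : AlgebraicClosure F, T14.rep P z = c • 1 := by
  obtain ⟨c, -, hc⟩ := phT_scalar e hz
  refine ⟨algebraMap F _ c, ?_⟩
  rw [T14.rep_apply, hc]
  have h1 : (c • (1 : Matrix ι ι F)).map (algebraMap F (AlgebraicClosure F)) =
      algebraMap F (AlgebraicClosure F) c • (1 : Matrix ι ι (AlgebraicClosure F)) := by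
    ext i j
    by_cases hij : i = j
    · subst hij; simp
    · simp [hij]
  rw [h1, map_smul, Matrix.toLin'_one]
  rfl

/-- the order of the scalars is prime to the characteristic -/
theorem card_scalars_ne [Finite F] (p : ℕ) [hp : Fact p.Prime] [CharP F p] (R : Type*) [Field R] [CharP R p] :
    (Nat.card (phT e).ker : R) ≠ 0 := by
  intro h0
  rw [CharP.cast_eq_zero_iff R p] at h0
  obtain ⟨z, hz⟩ := exists_prime_orderOf_dvd_card' (G := (phT e).ker) p h0
  obtain ⟨c, hc0, hc⟩ := phT_scalar e z.2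
  have h1 : (z : P) ^ p = 1 := by
    have h2 : z ^ p = 1 := by rw [← hz]; exact pow_orderOf_eq_one z
    exact congrArg Subtype.val h2
  have h2 : ((((z : P) ^ p : P) : GL ι F) : Matrix ι ι F) = (c ^ p) • 1 := by
    rw [Subgroup.coe_pow, Units.val_pow_eq_pow_val, hc, smul_pow, one_pow]
  rw [h1] at h2
  have h5 : z = 1 := by
    apply Subtype.ext
    apply Subtype.ext
    apply Units.ext
    rw [hc]
    by_cases hne : Nonempty ι
    · have h3 : c ^ p = 1 := by
        obtain ⟨i⟩ := hne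
        have := congrFun (congrFun h2 i) i
        simp at this
        exact this.symm
      have h4 : c = 1 := by
        have h5 : (c - 1) ^ p = 0 := by rw [sub_pow_char, h3, one_pow, sub_self]
        exact sub_eq_zero.1 (pow_eq_zero_iff hp.out.ne_zero |>.1 h5)
      rw [h4, one_smul]
      rfl
    · rw [not_nonempty_iff] at hne
      exact Subsingleton.elim _ _
  rw [h5, orderOf_one] at hz
  exact hp.out.one_lt.ne hz

/-- the covering structure of a core -/
theorem core_cov [Finite F] (p : ℕ) [hp : Fact p.Prime] [CharP F p] : Cov (phT e) (T14.rep P) where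
  surj := phT_surj e
  cen := phT_cen e
  scal := fun z hz => phT_rep e hz
  inj := T14.rep_injective
  card := by
    have : CharP (AlgebraicClosure F) p :=
      charP_of_injective_algebraMap (algebraMap F (AlgebraicClosure F)).injective p
    exact card_scalars_ne e p _

lemma finrank_rep {n : ℕ} (hn : Fintype.card ι = n) :
    finrank (AlgebraicClosure F) (ι → AlgebraicClosure F) = n := by
  rw [Module.finrank_fintype_fun_eq_card, hn]

/-- irreducibility and spanning -/
theorem span_of_irred [Nonempty ι] (Q : Subgroup P)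
    (hirr : ∀ W' : Submodule (AlgebraicClosure F) (ι → AlgebraicClosure F),
      (∀ g ∈ Q, ∀ v ∈ W', T14.rep P g v ∈ W') → W' = ⊥ ∨ W' = ⊤) :
    Submodule.span (AlgebraicClosure F) (T14.mrep P '' (Q : Set P)) = ⊤ := by
  let RB : Subgroup (GL ι (AlgebraicClosure F)) :=
    Q.map ((Matrix.GeneralLinearGroup.map (algebraMap F (AlgebraicClosure F))).comp P.subtype)
  have hset : matrixSet RB = T14.mrep P '' (Q : Set P) := by
    ext M
    constructor
    · rintro ⟨_, ⟨g, hg, rfl⟩, rfl⟩
      exact ⟨g, hg, rfl⟩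
    · rintro ⟨g, hg, rfl⟩
      exact ⟨_, ⟨g, hg, rfl⟩, rfl⟩
  rw [← hset]
  apply Cfsg.Agent.H920.span_eq_top
  constructor
  · intro W' hW'
    apply hirr W'
    intro g hg v hv
    have h1 := hW' (T14.mrep P g) (by rw [hset]; exact ⟨g, hg, rfl⟩)
    exact h1 ⟨v, hv, rfl⟩
  · intro M hM
    have hnt : Nontrivial (ι → AlgebraicClosure F) := inferInstance
    obtain ⟨c, hc⟩ := Module.End.exists_eigenvalue (Matrix.toLin' M)
    refine ⟨c, ?_⟩
    have h1 := hirr (Module.End.eigenspace (Matrix.toLin' M) c) (by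
      intro g hg v hv
      rw [Module.End.mem_eigenspace_iff] at hv ⊢
      have h3 := hM (T14.mrep P g) (by rw [hset]; exact ⟨g, hg, rfl⟩)
      have h4 := congrArg Matrix.toLin' h3
      rw [Matrix.toLin'_mul, Matrix.toLin'_mul] at h4
      have h5 := congrArg (fun f : (ι → AlgebraicClosure F) →ₗ[AlgebraicClosure F] (ι → AlgebraicClosure F) => f v) h4
      change Matrix.toLin' M (T14.rep P g v) = T14.rep P g (Matrix.toLin' M v) at h5
      rw [h5, hv, map_smul])
    have h3 : Module.End.eigenspace (Matrix.toLin' M) c = ⊤ := by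
      rcases h1 with h1 | h1
      · exact absurd h1 hc
      · exact h1
    have h4 : Matrix.toLin' M = Matrix.toLin' (c • (1 : Matrix ι ι (AlgebraicClosure F))) := by
      ext1 v
      rw [map_smul, Matrix.toLin'_one]
      have h5 : (LinearMap.single (AlgebraicClosure F) (fun _ : ι => AlgebraicClosure F) v 1) ∈
        Module.End.eigenspace (Matrix.toLin' M) c := by rw [h3]; trivial
      rw [Module.End.mem_eigenspace_iff] at h5
      apply LinearMap.ext_ring
      exact h5
    exact Matrix.toLin'.injective h4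

/-- glueing two subgroups along their intersection -/
theorem glue [Nonempty ι] {ρ₁ ρ₂ : P →* Matrix ι ι (AlgebraicClosure F)} (D H1 H2 : Subgroup P)
    (d1 : D ≤ H1) (d2 : D ≤ H2) (hgen : H1 ⊔ H2 = ⊤)
    (s₁ : Submodule.span (AlgebraicClosure F) (ρ₁ '' (D : Set P)) = ⊤)
    (s₂ : Submodule.span (AlgebraicClosure F) (ρ₂ '' (D : Set P)) = ⊤)
    (ta : ∀ g ∈ H1, (ρ₁ g).trace = (ρ₂ g).trace) (tb : ∀ g ∈ H2, (ρ₁ g).trace = (ρ₂ g).trace) (g : P) :
    (ρ₁ g).trace = (ρ₂ g).trace := by
  have mono : ∀ (ρ : P →* Matrix ι ι (AlgebraicClosure F)) (Q : Subgroup P), D ≤ Q →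
      Submodule.span (AlgebraicClosure F) (ρ '' (D : Set P)) = ⊤ →
      Submodule.span (AlgebraicClosure F) (ρ '' (Q : Set P)) = ⊤ := by
    intro ρ Q hQ hs
    rw [eq_top_iff, ← hs]
    exact Submodule.span_mono (Set.image_mono hQ)
  obtain ⟨B₁, hB₁⟩ := L34.exists_agree ρ₁ ρ₂ H1 (mono _ _ d1 s₁) (mono _ _ d1 s₂) ta
  obtain ⟨B₂, hB₂⟩ := L34.exists_agree ρ₁ ρ₂ H2 (mono _ _ d2 s₁) (mono _ _ d2 s₂) tb
  have h1 := L34.agree_eq s₁ (d1.trans hB₁) (d2.trans hB₂)
  have h2 : (⊤ : Subgroup P) ≤ L34.agree ρ₁ ρ₂ B₁ := by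
    rw [← hgen]
    exact sup_le hB₁ (by rw [h1]; exact hB₂)
  have h3 : L34.cjB B₁ ρ₁ g = ρ₂ g := h2 (Subgroup.mem_top g)
  rw [← h3, L34.cjB_apply, Matrix.trace_mul_comm, ← mul_assoc, ← Units.val_mul, inv_mul_cancel, Units.val_one, one_mul]

end Cfsg.Agent.H13.M22
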