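import Cfsg.Agent.H13.M22.CoreCov

/-!
# Traces of subgroups of `GL_10` with socle `PSL_3(4)` and scalars of order two (after helper906; helper13)
-/

set_option autoImplicit false
set_option linter.unusedSectionVars false

namespace Cfsg.Agent.H13.M22

open Cfsg Cfsg.Geo Cfsg.Agent.H906 Cfsg.Agent.H906.SL3Par Cfsg.Agent.H906.L34 H915.LD Cfsg.Agent.H906.T14
open scoped MatrixGroups commutatorElement Matrix

universe u v

variable {ι : Type} [Fintype ι] [DecidableEq ι] {F : Type u} [Field F] {P : Subgroup (GL ι F)}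
  {K : Type v} [Field K] [Fintype K] (e : Soc P ≃* Matrix.ProjectiveSpecialLinearGroup (Fin 3) K)

theorem coprime_of_sq {L : Type*} [Group L] [Finite L] (Z : Subgroup L) (hz : ∀ z ∈ Z, z ^ 2 = 1) {r : ℕ}
    (hr : r.Prime) (hr2 : r ≠ 2) : (Nat.card Z).Coprime r := by
  rw [Nat.coprime_comm, hr.coprime_iff_not_dvd]
  intro hd
  have : Fact r.Prime := ⟨hr⟩
  obtain ⟨z, hz'⟩ := exists_prime_orderOf_dvd_card' (G := Z) r hd
  have h1 : z ^ 2 = 1 := Subtype.ext (hz z.1 z.2)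
  have h2 := orderOf_dvd_of_pow_eq_one h1
  rw [hz'] at h2
  exact hr2 ((Nat.prime_dvd_prime_iff_eq hr Nat.prime_two).1 h2)

theorem two_of' [Nonempty ι] (hz2 : ∀ z ∈ (ph e).ker, z ^ 2 = 1) : Two (ph e) where
  surj := ph_surj e
  cen := ph_cen e
  four := fun z hz _ => hz2 z hz
  uniq := by
    intro z hz z' hz' h2 h2' h1 h1'
    have key : ∀ z : P, z ∈ (ph e).ker → z ^ 2 = 1 → z ≠ 1 → ((z : GL ι F) : Matrix ι ι F) = (-1 : F) • 1 := by
      intro z hz h2 h1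
      obtain ⟨c, -, hc⟩ := ph_scalar e hz
      have h3 : (((z ^ 2 : P) : GL ι F) : Matrix ι ι F) = (c ^ 2) • 1 := by
        rw [Subgroup.coe_pow, Units.val_pow_eq_pow_val, hc, smul_pow, one_pow]
      rw [h2] at h3
      have h4 : (c ^ 2 : F) = 1 := by
        apply smul_ext (ι := ι)
        rw [← h3, one_smul]
        rfl
      have h5 : (c - 1) * (c + 1) = 0 := by linear_combination h4
      rcases mul_eq_zero.1 h5 with h6 | h6
      · exfalso
        apply h1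
        apply Subtype.ext
        apply Units.ext
        rw [hc, sub_eq_zero.1 h6, one_smul]
        rfl
      · rw [hc, eq_neg_of_add_eq_zero_left h6]
    apply Subtype.ext
    apply Units.ext
    rw [key z hz h2 h1, key z' hz' h2' h1']

/-- the shape of the elements of order prime to `p` -/
theorem classify' [Finite F] (p : ℕ) [hp : Fact p.Prime] [CharP F p] (hp2 : p ≠ 2)
    (hK : Fintype.card K = 4) (hcop5 : (Nat.card (ph e).ker).Coprime 5) (hcop7 : (Nat.card (ph e).ker).Coprime 7)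
    (h : Two (ph e)) (hnine : ∀ z ∈ (ph e).ker, z ^ 9 = 1 → z ^ 3 = 1)
    (h5 : ∀ g : P, g ^ 5 = 1 → ph e g ≠ 1 → p ≠ 5 → tr (g : GL ι F) ^ p = tr (g : GL ι F))
    (g : P) (hg : ¬ p ∣ orderOf g) :
    ∃ g' : P, ph e g = ph e g' ∧
      (((ph e g' ^ 3 = 1 ∨ ph e g' ^ 4 = 1 ∨ ph e g' ^ 5 = 1) ∧ tr (g' : GL ι F) ^ p = tr (g' : GL ι F) ∧
        tr ((g' : GL ι F)⁻¹) = tr (g' : GL ι F)) ∨
      (p ≠ 7 ∧ ph e g' ^ 7 = 1 ∧ g' ^ 7 = 1 ∧ IsConj g' (g' ^ 2))) := by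
  have hfin : Finite P := inferInstance
  have hord : orderOf (ph e g) ∣ orderOf g := orderOf_map_dvd _ _
  have four : ∀ t, ph e g = t → t ^ 4 = 1 → ∃ g' : P, ph e g = ph e g' ∧
      (((ph e g' ^ 3 = 1 ∨ ph e g' ^ 4 = 1 ∨ ph e g' ^ 5 = 1) ∧ tr (g' : GL ι F) ^ p = tr (g' : GL ι F) ∧
        tr ((g' : GL ι F)⁻¹) = tr (g' : GL ι F)) ∨
      (p ≠ 7 ∧ ph e g' ^ 7 = 1 ∧ g' ^ 7 = 1 ∧ IsConj g' (g' ^ 2))) := by
    rintro t ht ht4
    obtain ⟨g', h1, h2, h3⟩ := h.two_part hK t ht4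
    refine ⟨g', by rw [ht, h1], Or.inl ⟨Or.inr (Or.inl (by rw [h1, ht4])), tr_real p h2 h3 ?_ (by norm_num), tr_inv_real h3⟩⟩
    have hodd := hp.out.eq_two_or_odd.resolve_left hp2
    omega
  rcases pow_cases hK (ph e g) with ht | ht | ht | ht
  · by_cases hp3 : p = 3
    · have h1 := eq_one_of_pow ht Nat.prime_three hord (by rw [← hp3]; exact hg)
      exact four _ rfl (by rw [h1, one_pow])
    · obtain ⟨g', h1, h2, h3⟩ := three_part (ph_surj e) (ph_cen e) hnine hK _ ht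
      refine ⟨g', by rw [h1], Or.inl ⟨Or.inl (by rw [h1, ht]), tr_real p h2 h3 ?_ (by norm_num), tr_inv_real h3⟩⟩
      have h4 : p % 3 ≠ 0 := fun h0 => hp3 ((Nat.prime_dvd_prime_iff_eq Nat.prime_three hp.out).1 (Nat.dvd_of_mod_eq_zero h0)).symm
      omega
  · exact four _ rfl ht
  · by_cases h1 : ph e g = 1
    · exact four _ rfl (by rw [h1, one_pow])
    · have hp5 : p ≠ 5 := by
        intro hp5
        exact h1 (eq_one_of_pow ht Nat.prime_five hord (by rw [← hp5]; exact hg))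
      obtain ⟨g', h2, h3, h4⟩ := five_part (ph_surj e) (ph_cen e)
        hcop5 hK _ ht
      exact ⟨g', by rw [h2], Or.inl ⟨Or.inr (Or.inr (by rw [h2, ht])), h5 g' h3 (by rw [h2]; exact h1) hp5, tr_inv_real h4⟩⟩
  · by_cases h1 : ph e g = 1
    · exact four _ rfl (by rw [h1, one_pow])
    · have hp7 : p ≠ 7 := by
        intro hp7
        exact h1 (eq_one_of_pow ht (by norm_num) hord (by rw [← hp7]; exact hg))
      obtain ⟨g', h2, h3, h4⟩ := seven_part (ph_surj e) (ph_cen e)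
        hcop7 hK _ ht
      exact ⟨g', by rw [h2], Or.inr ⟨hp7, by rw [h2, ht], h3, h4⟩⟩

/-- **Cores with socle `PSL_3(4)` in degree ten.** -/
theorem l34_ten' [Finite F] (p : ℕ) [hp : Fact p.Prime] [CharP F p] (hp2 : p ≠ 2)
    (hK : Fintype.card K = 4) (hn : Fintype.card ι = 10)
    (e : Soc P ≃* Matrix.ProjectiveSpecialLinearGroup (Fin 3) K) (hz2 : ∀ z ∈ (ph e).ker, z ^ 2 = 1) :
    ((p % 7 = 1 ∨ p % 7 = 2 ∨ p % 7 = 4) → Fr P p) ∧ ((p % 7 = 3 ∨ p % 7 = 5 ∨ p % 7 = 6) → Cj P p) ∧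
      (p = 7 → SD P ∧ Fr P 7) := by
  have hfin : Finite P := inferInstance
  have hne : Nonempty ι := by rw [← Fintype.card_pos_iff, hn]; norm_num
  have h := two_of' e hz2
  have hcop := coprime_of_sq (ph e).ker hz2 Nat.prime_five (by norm_num)
  have hcop7 := coprime_of_sq (ph e).ker hz2 (by norm_num : Nat.Prime 7) (by norm_num)
  have h2Ω := two_ne (F := F) p hp2 (AlgebraicClosure F)
  have h5 : ∀ g : P, g ^ 5 = 1 → ph e g ≠ 1 → p ≠ 5 → tr (g : GL ι F) ^ p = tr (g : GL ι F) := by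
    intro g hg5 hg1 _
    have h6 := five_trace_ten h hK (rep P) rep_injective (fun z hz => rep_scalar e hz) h2Ω hcop
      (by rw [Module.finrank_fintype_fun_eq_card, hn]) hg5 hg1
    rw [trace_rep, map_eq_zero] at h6
    rw [h6, zero_pow hp.out.ne_zero]
  have hcl := classify' e p hp2 hK hcop hcop7 h (fun z hz h9 => by
    have h1 : z ^ 9 = z := by
      calc z ^ 9 = (z ^ 2) ^ 4 * z := by rw [← pow_mul, ← pow_succ]
        _ = z := by rw [hz2 z hz, one_pow, one_mul]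
    rw [h1] at h9
    rw [h9, one_pow]) h5
  have hodd : p % 2 = 1 := hp.out.eq_two_or_odd.resolve_left hp2
  -- signs
  have sgn : ∀ z ∈ (ph e).ker, ∀ c : F, ((z : GL ι F) : Matrix ι ι F) = c • 1 → c ^ p = c ∧ c⁻¹ = c := by
    intro z hz c hc
    have h1 := hz2 z hz
    have h3 : (((z ^ 2 : P) : GL ι F) : Matrix ι ι F) = (c ^ 2) • 1 := by
      rw [Subgroup.coe_pow, Units.val_pow_eq_pow_val, hc, smul_pow, one_pow]
    rw [h1] at h3
    have h4 : (c ^ 2 : F) = 1 := by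
      apply smul_ext (ι := ι)
      rw [← h3, one_smul]
      rfl
    constructor
    · have h5 : p = 2 * (p / 2) + 1 := by omega
      rw [h5, pow_succ, pow_mul, h4, one_pow, one_mul]
    · exact inv_eq_of_mul_eq_one_right (by rw [← pow_two, h4])
  -- real elements
  have real : ∀ g : P, ¬ p ∣ orderOf g → (p % 7 = 0 ∨ ∃ g', ph e g = ph e g' ∧ tr (g' : GL ι F) ^ p = tr (g' : GL ι F) ∧
        tr ((g' : GL ι F)⁻¹) = tr (g' : GL ι F)) → tr (g : GL ι F) ^ p = tr (g : GL ι F) ∧ tr ((g : GL ι F)⁻¹) = tr (g : GL ι F) := by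
    intro g hg hor
    have hex : ∃ g', ph e g = ph e g' ∧ tr (g' : GL ι F) ^ p = tr (g' : GL ι F) ∧
        tr ((g' : GL ι F)⁻¹) = tr (g' : GL ι F) := by
      rcases hor with h0 | h0
      · obtain ⟨g', h1, h2 | h2⟩ := hcl g hg
        · exact ⟨g', h1, h2.2⟩
        · exfalso
          apply h2.1
          exact ((Nat.prime_dvd_prime_iff_eq (by norm_num) hp.out).1 (Nat.dvd_of_mod_eq_zero h0)).symm
      · exact h0
    obtain ⟨g', h1, h2, h3⟩ := hex
    obtain ⟨z, hz, c, hc0, hc, t1, t2⟩ := tr_twist e h1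
    obtain ⟨s1, s2⟩ := sgn z hz c hc
    rw [t1, t2, s2, h3, mul_pow, s1, h2]
    exact ⟨rfl, rfl⟩
  refine ⟨?_, ?_, ?_⟩
  · intro h7
    apply Fr.of_reg' p
    intro g hg hord
    have hord' : ¬ p ∣ orderOf (⟨g, hg⟩ : P) := by rwa [← Subgroup.orderOf_coe]
    obtain ⟨g', h1, h2 | h2⟩ := hcl ⟨g, hg⟩ hord'
    · exact (real ⟨g, hg⟩ hord' (Or.inr ⟨g', h1, h2.2⟩)).1
    · obtain ⟨z, hz, c, hc0, hc, t1, t2⟩ := tr_twist e h1
      obtain ⟨s1, s2⟩ := sgn z hz c hc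
      change tr ((⟨g, hg⟩ : P) : GL ι F) ^ p = tr ((⟨g, hg⟩ : P) : GL ι F)
      rw [t1, mul_pow, s1, (tr_seven p h2.2.2.1 h2.2.2.2).1 h7]
  · intro h7
    apply Cj.of_reg' p
    intro g hg hord
    have hord' : ¬ p ∣ orderOf (⟨g, hg⟩ : P) := by rwa [← Subgroup.orderOf_coe]
    obtain ⟨g', h1, h2 | h2⟩ := hcl ⟨g, hg⟩ hord'
    · have h3 := real ⟨g, hg⟩ hord' (Or.inr ⟨g', h1, h2.2⟩)
      change tr ((⟨g, hg⟩ : P) : GL ι F) ^ p = tr ((⟨g, hg⟩ : P) : GL ι F)⁻¹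
      rw [h3.1, h3.2]
    · obtain ⟨z, hz, c, hc0, hc, t1, t2⟩ := tr_twist e h1
      obtain ⟨s1, s2⟩ := sgn z hz c hc
      change tr ((⟨g, hg⟩ : P) : GL ι F) ^ p = tr ((⟨g, hg⟩ : P) : GL ι F)⁻¹
      rw [t1, t2, mul_pow, s1, s2, (tr_seven p h2.2.2.1 h2.2.2.2).2 h7]
  · rintro rfl
    constructor
    · apply SD.of_reg 7
      intro g hg hord
      have hord' : ¬ 7 ∣ orderOf (⟨g, hg⟩ : P) := by rwa [← Subgroup.orderOf_coe]
      exact (real ⟨g, hg⟩ hord' (Or.inl rfl)).2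
    · apply Fr.of_reg' 7
      intro g hg hord
      have hord' : ¬ 7 ∣ orderOf (⟨g, hg⟩ : P) := by rwa [← Subgroup.orderOf_coe]
      exact (real ⟨g, hg⟩ hord' (Or.inl rfl)).1

end Cfsg.Agent.H13.M22
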