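import Cfsg.Agent.H13.M22.Elts

/-!
# `M22` has no projective representation of degree twelve in odd characteristic (helper13)
-/

set_option autoImplicit false
set_option linter.unusedSectionVars false

namespace Cfsg.Agent.H13.M22

open Module Cfsg Cfsg.Agent.H906.Wt Cfsg.Agent.SporadicA.GolayBase Cfsg.Agent.SporadicA.GolayPerm
open Cfsg.Agent.SporadicStructure.M24El Cfsg.Agent.H921.Spor Cfsg.Agent.H921.Spor.M24

section

variable {L Ω V : Type*} [Group L] [Finite L] [Field Ω] [IsAlgClosed Ω] [AddCommGroup V] [Module Ω V]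
  [FiniteDimensional Ω V] {φ : L →* Spor.M22} {ρ : L →* Module.End Ω V}

/-- traces of the lifts of the involutions of `E22` -/
theorem tr_E (h : Cov φ ρ) (h2 : (2 : Ω) ≠ 0) (hn : finrank Ω V ≤ 13) (hn8 : 8 ≤ finrank Ω V) {a : L}
    (ha : φ a ∈ E22) (hne : φ a ≠ 1) : ∃ μ : Ω, μ ≠ 0 ∧ ρ (a ^ 2) = (μ ^ 2) • 1 ∧
      LinearMap.trace Ω V (ρ a) = ((finrank Ω V : Ω) - 8) * μ := by
  obtain ⟨c, hc⟩ := E22_conj _ ha hne
  obtain ⟨c, rfl⟩ := h.surj c
  obtain ⟨k, hk⟩ := h.surj (em sP)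
  have hg : φ (c⁻¹ * a * c) = em x0P := by
    rw [map_mul, map_mul, map_inv, ← hc]
    group
  obtain ⟨μ, m1, m2, m3, -⟩ := (frob7 h h2 fr7 hg hk hn).2 hn8
  refine ⟨μ, m1, ?_, ?_⟩
  · obtain ⟨d, hd⟩ := h.scal (a ^ 2) (by rw [MonoidHom.mem_ker, map_pow, f53.sq _ ha])
    have e1 : (c⁻¹ * a * c) ^ 2 = a ^ 2 := by
      have e2 : (c⁻¹ * a * c) ^ 2 = c⁻¹ * a ^ 2 * c := by
        rw [pow_two, pow_two]; group
      have e3 := h.comm (z := a ^ 2) (by rw [MonoidHom.mem_ker, map_pow, f53.sq _ ha]) c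
      rw [e2, mul_assoc, e3, inv_mul_cancel_left]
    rw [← m2, e1]
  · rw [← m3]
    have := trace_conj (ρ := ρ) c⁻¹ a
    rw [inv_inv] at this
    exact this.symm

/-- the preimage of `E22` is abelian -/
theorem E_ab (h : Cov φ ρ) (h2 : (2 : Ω) ≠ 0) (hn : finrank Ω V = 10 ∨ finrank Ω V = 12) :
    ∀ a ∈ E22.comap φ, ∀ b ∈ E22.comap φ, a * b = b * a := by
  intro a ha b hb
  by_cases h1 : φ a = 1
  · exact h.comm h1 b
  · apply h.comm_of_trace (E22_comm _ ha _ hb)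
    obtain ⟨μ, m1, -, m3⟩ := tr_E h h2 (by omega) (by omega) ha h1
    rw [m3]
    apply mul_ne_zero _ m1
    rcases hn with hn | hn
    · rw [hn]
      have : ((10 : ℕ) : Ω) - 8 = 2 := by norm_num
      rw [this]; exact h2
    · rw [hn]
      have : ((12 : ℕ) : Ω) - 8 = 2 * 2 := by norm_num
      rw [this]; exact mul_ne_zero h2 h2

lemma orbit_idx {S SI : ℕ} (hS : okM S = true) (hSI : okM SI = true) (hi : pcomp S SI = idP) {P Q : ℕ}
    (hP : okM P = true) (h : pcomp S (pcomp P SI) = Q) : em S * em P * (em S)⁻¹ = em Q := em_conj hS hSI hP hi h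

/-- **no degree twelve** -/
theorem twelve_false (h : Cov φ ρ) (h2 : (2 : Ω) ≠ 0) (hn : finrank Ω V = 12) : False := by
  classical
  have hab := E_ab h h2 (Or.inr hn)
  obtain ⟨g5, h5⟩ := h.surj (em s5P)
  obtain ⟨g3, h3⟩ := h.surj (em s3P)
  have hFT := f53.ft h hab h5 h3
  obtain ⟨χ, c1, c2, c3⟩ := hFT.twelve h.scal (f53.card h h2) (f53.not_top h) hn
  have h4 : (4 : Ω) ≠ 0 := by
    have : (4 : Ω) = 2 * 2 := by norm_num
    rw [this]; exact mul_ne_zero h2 h2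
  have hn12 : (finrank Ω V : Ω) - 8 = 4 := by rw [hn]; norm_num
  have trne : ∀ a : L, φ a ∈ E22 → φ a ≠ 1 → LinearMap.trace Ω V (ρ a) ≠ 0 := by
    intro a ha hne
    obtain ⟨μ, m1, -, m3⟩ := tr_E h h2 (by omega) (by omega) ha hne
    rw [m3, hn12]
    exact mul_ne_zero h4 m1
  -- the function `θ`
  let θ : ∀ a : L, a ∈ E22.comap φ → Ω := fun a ha => 4 * (χ ⟨a, ha⟩ : Ω) * (LinearMap.trace Ω V (ρ a))⁻¹
  have θeq : ∀ (a : L) (ha : a ∈ E22.comap φ), φ a ≠ 1 →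
      4 * (χ ⟨a, ha⟩ : Ω) = θ a ha * LinearMap.trace Ω V (ρ a) := by
    intro a ha hne
    change _ = 4 * (χ ⟨a, ha⟩ : Ω) * (LinearMap.trace Ω V (ρ a))⁻¹ * _
    rw [inv_mul_cancel_right₀ (trne a ha hne)]
  obtain ⟨v, hv, hv0⟩ := (Submodule.ne_bot_iff _).1 c2
  have kerχ : ∀ (z : L) (hz : z ∈ φ.ker) (hzA : z ∈ E22.comap φ) (c : Ω), ρ z = c • 1 → (χ ⟨z, hzA⟩ : Ω) = c := by
    intro z hz hzA c hc
    have e1 := mem_W.1 hv ⟨z, hzA⟩
    change ρ z v = _ at e1
    rw [hc, LinearMap.smul_apply, Module.End.one_apply] at e1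
    have e3 : (c - (χ ⟨z, hzA⟩ : Ω)) • v = 0 := by rw [sub_smul, e1, sub_self]
    exact (sub_eq_zero.1 ((smul_eq_zero.1 e3).resolve_right hv0)).symm
  have θsq : ∀ (a : L) (ha : a ∈ E22.comap φ), φ a ≠ 1 → θ a ha ^ 2 = 1 := by
    intro a ha hne
    obtain ⟨μ, m1, m2, m3⟩ := tr_E h h2 (by omega) (by omega) ha hne
    have e1 : (χ ⟨a, ha⟩ : Ω) ^ 2 = μ ^ 2 := by
      rw [← Units.val_pow_eq_pow_val, ← map_pow]
      exact kerχ (a ^ 2) (by rw [MonoidHom.mem_ker, map_pow, f53.sq _ ha]) _ _ m2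
    change (4 * (χ ⟨a, ha⟩ : Ω) * (LinearMap.trace Ω V (ρ a))⁻¹) ^ 2 = 1
    rw [m3, hn12, mul_pow, mul_pow, e1, ← mul_pow, inv_pow, mul_inv_cancel₀]
    exact pow_ne_zero _ (mul_ne_zero h4 m1)
  have θker : ∀ (a b : L) (ha : a ∈ E22.comap φ) (hb : b ∈ E22.comap φ), φ a = φ b → θ a ha = θ b hb := by
    intro a b ha hb hab'
    obtain ⟨z, hz, rfl⟩ := h.exists_eq hab'
    obtain ⟨c, hc⟩ := h.scal z hz
    have hzA : z ∈ E22.comap φ := by
      change φ z ∈ E22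
      rw [(MonoidHom.mem_ker).1 hz]; exact E22.one_mem
    have hc0 : c ≠ 0 := by
      rw [← kerχ z hz hzA c hc]
      exact (χ _).ne_zero
    have e1 : (χ ⟨z * b, ha⟩ : Ω) = c * (χ ⟨b, hb⟩ : Ω) := by
      rw [← kerχ z hz hzA c hc, ← Units.val_mul, ← map_mul]
      rfl
    have e2 : LinearMap.trace Ω V (ρ (z * b)) = c * LinearMap.trace Ω V (ρ b) := by
      rw [map_mul, hc, smul_mul_assoc, one_mul, map_smul, smul_eq_mul]
    change 4 * (χ ⟨z * b, ha⟩ : Ω) * (LinearMap.trace Ω V (ρ (z * b)))⁻¹ = 4 * (χ ⟨b, hb⟩ : Ω) * (LinearMap.trace Ω V (ρ b))⁻¹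
    rw [e1, e2, mul_inv]
    field_simp
  have θ5 : ∀ (a : L) (ha : a ∈ E22.comap φ) (ha' : g5 * a * g5⁻¹ ∈ E22.comap φ),
      θ (g5 * a * g5⁻¹) ha' = θ a ha := by
    intro a ha ha'
    have e1 := (sg_eq_self hFT.n5).1 c1 ⟨a, ha⟩
    have e2 : (χ ⟨g5 * a * g5⁻¹, ha'⟩ : Ω) = (χ ⟨a, ha⟩ : Ω) := congrArg Units.val e1
    change 4 * (χ ⟨g5 * a * g5⁻¹, ha'⟩ : Ω) * (LinearMap.trace Ω V (ρ (g5 * a * g5⁻¹)))⁻¹ =
      4 * (χ ⟨a, ha⟩ : Ω) * (LinearMap.trace Ω V (ρ a))⁻¹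
    rw [trace_conj, e2]
  -- the function `ε` on `E22`
  choose lf hlf using h.surj
  have lfA : ∀ t ∈ E22, lf t ∈ E22.comap φ := by
    intro t ht
    change φ (lf t) ∈ E22
    rw [hlf]; exact ht
  let εT : Spor.M22 → Ω := fun t => if ht : t ∈ E22 then θ (lf t) (lfA t ht) else 0
  have εθ : ∀ (a : L) (ha : a ∈ E22.comap φ), θ a ha = εT (φ a) := by
    intro a ha
    have ha' : φ a ∈ E22 := ha
    change _ = if ht : φ a ∈ E22 then θ (lf (φ a)) (lfA _ ht) else 0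
    rw [dif_pos ha']
    exact θker _ _ _ _ (hlf _).symm
  have ε5 : ∀ t ∈ E22, εT (em s5P * t * (em s5P)⁻¹) = εT t := by
    intro t ht
    have e1 := (f53.n5 t).1 ht
    have hA := lfA t ht
    have hA' : g5 * lf t * g5⁻¹ ∈ E22.comap φ := (hFT.n5 _).1 hA
    have e2 := θ5 _ hA hA'
    rw [εθ, εθ, map_mul, map_mul, map_inv, h5, hlf] at e2
    exact e2
  let ev : ℕ → Ω := fun i => εT (em (EL.getD i idP))
  obtain ⟨-, okS, -, ok5, ok5I, ok3, ok3I, okk⟩ := ok_data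
  have i5 : pcomp s5P s5I = idP := by decide +kernel
  have i3 : pcomp s3P s3I = idP := by decide +kernel
  have okE : ∀ i, okM (EL.getD i idP) = true := by
    intro i
    by_cases hi : i < EL.length
    · rw [List.getD_eq_getElem _ _ hi]
      exact ok_EL _ (List.getElem_mem hi)
    · rw [List.getD_eq_default _ _ (by omega)]
      exact okM_idP
  have memE : ∀ i, em (EL.getD i idP) ∈ E22 := by
    intro i
    by_cases hi : i < EL.length
    · rw [List.getD_eq_getElem _ _ hi]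
      exact em_mem_E22 (List.getElem_mem hi)
    · rw [List.getD_eq_default _ _ (by omega), em_one]
      exact E22.one_mem
  have step : ∀ i, pcomp s5P (pcomp (EL.getD i idP) s5I) = EL.getD (i + 1) idP → ev (i + 1) = ev i := by
    intro i hi
    have e1 := em_conj ok5 ok5I (okE i) i5 hi
    change εT (em (EL.getD (i + 1) idP)) = εT (em (EL.getD i idP))
    rw [← e1]
    exact ε5 _ (memE i)
  have v2 : ev 2 = ev 1 := step 1 (by decide +kernel)
  have v3 : ev 3 = ev 2 := step 2 (by decide +kernel)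
  have v7 : ev 7 = ev 6 := step 6 (by decide +kernel)
  have v8 : ev 8 = ev 7 := step 7 (by decide +kernel)
  have v9 : ev 9 = ev 8 := step 8 (by decide +kernel)
  have v10 : ev 10 = ev 9 := step 9 (by decide +kernel)
  have v12 : ev 12 = ev 11 := step 11 (by decide +kernel)
  have v13 : ev 13 = ev 12 := step 12 (by decide +kernel)
  have v14 : ev 14 = ev 13 := step 13 (by decide +kernel)
  have ne1 : ∀ i, 1 ≤ i → i ≤ 15 → em (EL.getD i idP) ≠ 1 := by
    intro i h1 h15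
    have hall : ((List.range 16).all fun i => Nat.beq i 0 || (List.range 24).any fun j =>
      !Nat.beq (papp (EL.getD i idP) j) j) = true := by decide +kernel
    have h3 := List.all_eq_true.1 hall i (List.mem_range.2 (by omega))
    rw [Bool.or_eq_true] at h3
    rcases h3 with h3 | h3
    · have := Nat.eq_of_beq_eq_true h3
      omega
    · obtain ⟨j, hj, h4⟩ := List.any_eq_true.1 h3
      refine em_ne_one (okE i) (List.mem_range.1 hj) ?_
      intro h5
      rw [h5] at h4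
      simp at h4
  have evsq : ∀ i, 1 ≤ i → i ≤ 15 → ev i ^ 2 = 1 := by
    intro i h1 h15
    have hA := lfA _ (memE i)
    have e1 := θsq (lf (em (EL.getD i idP))) hA (by rw [hlf]; exact ne1 i h1 h15)
    rw [εθ, hlf] at e1
    exact e1
  -- (C)
  have hC : ev 1 + ev 6 + ev 11 = 1 := by
    have hA := lfA _ (memE 1)
    set a := lf (em (EL.getD 1 idP)) with ha
    have hφa : φ a = em (EL.getD 1 idP) := hlf _
    have hane : φ a ≠ 1 := by rw [hφa]; exact ne1 1 (by norm_num) (by norm_num)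
    have e1 := c3 ⟨a, hA⟩
    change LinearMap.trace Ω V (ρ a) = _ at e1
    have key : ∀ i ∈ Finset.range 5, 4 * ((((sg Ω hFT.n5) ^ i) (sg Ω hFT.n3 χ)) ⟨a, hA⟩ : Ω) =
        ev (([6, 3, 10, 14, 12] : List ℕ).getD i 0) * LinearMap.trace Ω V (ρ a) := by
      intro i hi
      have hi' := Finset.mem_range.1 hi
      have e2 : (sg Ω hFT.n5) ^ i = sg Ω (hFT.n5.pow i) := (sg_pow hFT.n5 i (hFT.n5.pow i)).symm
      rw [e2, sg_apply, sg_apply]
      have hb : g3⁻¹ * ((g5 ^ i)⁻¹ * a * g5 ^ i) * g3 ∈ E22.comap φ := hFT.n3.inv_mem ((hFT.n5.pow i).inv_mem hA)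
      have htr : LinearMap.trace Ω V (ρ (g3⁻¹ * ((g5 ^ i)⁻¹ * a * g5 ^ i) * g3)) = LinearMap.trace Ω V (ρ a) := by
        have t1 := trace_conj (ρ := ρ) g3⁻¹ ((g5 ^ i)⁻¹ * a * g5 ^ i)
        have t2 := trace_conj (ρ := ρ) (g5 ^ i)⁻¹ a
        rw [inv_inv] at t1 t2
        rw [t1, t2]
      have hφb : φ (g3⁻¹ * ((g5 ^ i)⁻¹ * a * g5 ^ i) * g3) = em (EL.getD (([6, 3, 10, 14, 12] : List ℕ).getD i 0) idP) := by
        rw [map_mul, map_mul, map_mul, map_mul, map_inv, map_inv, map_pow, h5, h3, hφa,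
          ← em_inv ok3 ok3I i3]
        have e3 : (em s5P ^ i)⁻¹ = em (ppow s5I i) := by
          rw [em_ppow ok5I, em_inv ok5 ok5I i5, inv_pow]
        rw [e3, ← em_ppow ok5, ← em_mul (okM_ppow ok5I i) (okE 1),
          ← em_mul (okM_pcomp (okM_ppow ok5I i) (okE 1)) (okM_ppow ok5 i),
          ← em_mul ok3I (okM_pcomp (okM_pcomp (okM_ppow ok5I i) (okE 1)) (okM_ppow ok5 i)),
          ← em_mul (okM_pcomp ok3I (okM_pcomp (okM_pcomp (okM_ppow ok5I i) (okE 1)) (okM_ppow ok5 i))) ok3]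
        have hall : ((List.range 5).all fun i => Nat.beq
          (pcomp (pcomp s3I (pcomp (pcomp (ppow s5I i) (EL.getD 1 idP)) (ppow s5P i))) s3P)
          (EL.getD (([6, 3, 10, 14, 12] : List ℕ).getD i 0) idP)) = true := by decide +kernel
        rw [Nat.eq_of_beq_eq_true (List.all_eq_true.1 hall i (List.mem_range.2 hi'))]
      have hbne : φ (g3⁻¹ * ((g5 ^ i)⁻¹ * a * g5 ^ i) * g3) ≠ 1 := by
        intro h0
        apply hane
        have : φ a = φ g5 ^ i * (φ g3 * φ (g3⁻¹ * ((g5 ^ i)⁻¹ * a * g5 ^ i) * g3) * (φ g3)⁻¹) * (φ g5 ^ i)⁻¹ := by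
          simp only [map_mul, map_inv, map_pow]
          group
        rw [this, h0]
        group
      have e4 := θeq _ hb hbne
      rw [εθ, hφb, htr] at e4
      exact e4
    have e5 := θeq a hA hane
    rw [εθ, hφa] at e5
    have e6 : 4 * (χ ⟨a, hA⟩ : Ω) = ev 1 * LinearMap.trace Ω V (ρ a) := e5
    have e7 : ∑ i ∈ Finset.range 5, 4 * ((((sg Ω hFT.n5) ^ i) (sg Ω hFT.n3 χ)) ⟨a, hA⟩ : Ω) =
        ∑ i ∈ Finset.range 5, ev (([6, 3, 10, 14, 12] : List ℕ).getD i 0) * LinearMap.trace Ω V (ρ a) :=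
      Finset.sum_congr rfl key
    rw [← Finset.mul_sum] at e7 e1
    have e8 : ∑ i ∈ Finset.range 5, ev (([6, 3, 10, 14, 12] : List ℕ).getD i 0) * LinearMap.trace Ω V (ρ a) =
        (ev 6 + ev 3 + ev 10 + ev 14 + ev 12) * LinearMap.trace Ω V (ρ a) := by
      simp only [Finset.sum_range_succ, Finset.sum_range_zero]
      change 0 + ev 6 * _ + ev 3 * _ + ev 10 * _ + ev 14 * _ + ev 12 * _ = _
      ring
    rw [e8] at e7
    have hne0 := trne a hA hane
    generalize hS : ∑ i ∈ Finset.range 5, ((((sg Ω hFT.n5) ^ i) (sg Ω hFT.n3 χ)) ⟨a, hA⟩ : Ω) = S at e1 e7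
    generalize (χ ⟨a, hA⟩ : Ω) = X at e1 e6
    generalize LinearMap.trace Ω V (ρ a) = t at e1 e6 e7 hne0
    have h9 : 2 * (ev 1 + ev 6 + ev 11 - 1) * t = 0 := by
      rw [v3, v2, v10, v9, v8, v7, v14, v13, v12] at e7
      linear_combination (-2 : Ω) * e1 - e6 - e7
    rcases mul_eq_zero.1 h9 with h9 | h9
    · rcases mul_eq_zero.1 h9 with h9 | h9
      · exact absurd h9 h2
      · linear_combination h9
    · exact absurd h9 hne0
  -- products
  have χmul : ∀ (a b : L) (ha : a ∈ E22.comap φ) (hb : b ∈ E22.comap φ) (hab : a * b ∈ E22.comap φ),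
      (χ ⟨a * b, hab⟩ : Ω) = (χ ⟨a, ha⟩ : Ω) * (χ ⟨b, hb⟩ : Ω) := by
    intro a b ha hb hab
    rw [← Units.val_mul, ← map_mul]
    rfl
  -- (B)
  have hB : ev 6 = 1 := by
    obtain ⟨k, hk⟩ := h.surj (em sP)
    have e10 : EL.getD 10 idP = x0P := by decide
    have hA := lfA _ (memE 10)
    set a := lf (em (EL.getD 10 idP)) with ha
    have hφa : φ a = em (EL.getD 10 idP) := hlf _
    have hφx : φ a = em x0P := by rw [hφa, e10]
    obtain ⟨μ, m1, m2, m3, m4⟩ := (frob7 h h2 fr7 hφx hk (by omega)).2 (by omega)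
    rw [hn12] at m3 m4
    have hφb : φ (k * a * k⁻¹) = em (EL.getD 11 idP) := by
      rw [map_mul, map_mul, map_inv, hk, hφa]
      exact em_conj' okS (okE 10) (okE 11) (by decide +kernel)
    have hφab : φ (a * (k * a * k⁻¹)) = em (EL.getD 14 idP) := by
      rw [map_mul, hφb, hφa, ← em_mul (okE 10) (okE 11)]
      have : pcomp (EL.getD 10 idP) (EL.getD 11 idP) = EL.getD 14 idP := by decide +kernel
      rw [this]
    have hb : k * a * k⁻¹ ∈ E22.comap φ := by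
      change φ _ ∈ E22
      rw [hφb]; exact memE 11
    have hab' : a * (k * a * k⁻¹) ∈ E22.comap φ := by
      change φ _ ∈ E22
      rw [hφab]; exact memE 14
    have t1 := θeq a hA (by rw [hφa]; exact ne1 10 (by norm_num) (by norm_num))
    have t2 := θeq _ hb (by rw [hφb]; exact ne1 11 (by norm_num) (by norm_num))
    have t3 := θeq _ hab' (by rw [hφab]; exact ne1 14 (by norm_num) (by norm_num))
    rw [εθ, hφa, m3] at t1
    rw [εθ, hφb, trace_conj, m3] at t2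
    rw [εθ, hφab, m4, χmul a _ hA hb hab'] at t3
    have t1' : 4 * (χ ⟨a, hA⟩ : Ω) = ev 10 * (4 * μ) := t1
    have t2' : 4 * (χ ⟨k * a * k⁻¹, hb⟩ : Ω) = ev 11 * (4 * μ) := t2
    have t3' : 4 * ((χ ⟨a, hA⟩ : Ω) * (χ ⟨k * a * k⁻¹, hb⟩ : Ω)) = ev 14 * (4 * μ ^ 2) := t3
    generalize (χ ⟨a, hA⟩ : Ω) = X at t1' t3'
    generalize (χ ⟨k * a * k⁻¹, hb⟩ : Ω) = Y at t2' t3'
    have w1 : 16 * μ ^ 2 * (ev 14 - ev 10 * ev 11) = 0 := by
      linear_combination (4 * Y) * t1' + (ev 10 * 4 * μ) * t2' - 4 * t3'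
    have w2 : (16 * μ ^ 2 : Ω) ≠ 0 := by
      have : (16 : Ω) = 4 * 4 := by norm_num
      rw [this]
      exact mul_ne_zero (mul_ne_zero h4 h4) (pow_ne_zero _ m1)
    have w3 : ev 14 = ev 10 * ev 11 := sub_eq_zero.1 ((mul_eq_zero.1 w1).resolve_left w2)
    rw [v14, v13, v12, v10, v9, v8, v7] at w3
    have w4 := evsq 11 (by norm_num) (by norm_num)
    linear_combination (-(ev 11)) * w3 + (1 - ev 6) * w4
  -- (A')
  have hA' : ev 1 * ev 11 = 1 := by
    obtain ⟨k, hk⟩ := h.surj (em kP)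
    have hAa := lfA _ (memE 1)
    have hAb := lfA _ (memE 7)
    set a := lf (em (EL.getD 1 idP)) with ha
    set b := lf (em (EL.getD 7 idP)) with hb
    have hφa : φ a = em (EL.getD 1 idP) := hlf _
    have hφb : φ b = em (EL.getD 7 idP) := hlf _
    have hφab : φ (a * b) = em (EL.getD 10 idP) := by
      rw [map_mul, hφb, hφa, ← em_mul (okE 1) (okE 7)]
      have : pcomp (EL.getD 1 idP) (EL.getD 7 idP) = EL.getD 10 idP := by decide +kernel
      rw [this]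
    have ka : φ (k * a * k⁻¹) = em (EL.getD 6 idP) := by
      rw [map_mul, map_mul, map_inv, hk, hφa]
      exact em_conj' okk (okE 1) (okE 6) (by decide +kernel)
    have kb : φ (k * b * k⁻¹) = em (EL.getD 7 idP) := by
      rw [map_mul, map_mul, map_inv, hk, hφb]
      exact em_conj' okk (okE 7) (okE 7) (by decide +kernel)
    have kab : φ ((k * a * k⁻¹) * (k * b * k⁻¹)) = em (EL.getD 14 idP) := by
      rw [map_mul, ka, kb, ← em_mul (okE 6) (okE 7)]
      have : pcomp (EL.getD 6 idP) (EL.getD 7 idP) = EL.getD 14 idP := by decide +kernel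
      rw [this]
    have mab : a * b ∈ E22.comap φ := Subgroup.mul_mem _ hAa hAb
    have mka : k * a * k⁻¹ ∈ E22.comap φ := by
      change φ _ ∈ E22
      rw [ka]; exact memE 6
    have mkb : k * b * k⁻¹ ∈ E22.comap φ := by
      change φ _ ∈ E22
      rw [kb]; exact memE 7
    have mkab := Subgroup.mul_mem _ mka mkb
    have nea : φ a ≠ 1 := by rw [hφa]; exact ne1 1 (by norm_num) (by norm_num)
    have neb : φ b ≠ 1 := by rw [hφb]; exact ne1 7 (by norm_num) (by norm_num)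
    have neab : φ (a * b) ≠ 1 := by rw [hφab]; exact ne1 10 (by norm_num) (by norm_num)
    have t1 := θeq a hAa nea
    have t2 := θeq b hAb neb
    have t3 := θeq _ mab neab
    have t4 := θeq _ mka (by rw [ka]; exact ne1 6 (by norm_num) (by norm_num))
    have t5 := θeq _ mkb (by rw [kb]; exact ne1 7 (by norm_num) (by norm_num))
    have t6 := θeq _ mkab (by rw [kab]; exact ne1 14 (by norm_num) (by norm_num))
    have tk : LinearMap.trace Ω V (ρ ((k * a * k⁻¹) * (k * b * k⁻¹))) = LinearMap.trace Ω V (ρ (a * b)) := by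
      have : (k * a * k⁻¹) * (k * b * k⁻¹) = k * (a * b) * k⁻¹ := by group
      rw [this]
      exact trace_conj _ _
    rw [εθ, hφa] at t1
    rw [εθ, hφb] at t2
    rw [εθ, hφab, χmul a b hAa hAb mab] at t3
    rw [εθ, ka, trace_conj] at t4
    rw [εθ, kb, trace_conj] at t5
    rw [εθ, kab, tk, χmul _ _ mka mkb mkab] at t6
    have n1 := trne a hAa nea
    have n2 := trne b hAb neb
    have n3 := trne _ mab neab
    have t1' : 4 * (χ ⟨a, hAa⟩ : Ω) = ev 1 * _ := t1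
    have t2' : 4 * (χ ⟨b, hAb⟩ : Ω) = ev 7 * _ := t2
    have t3' : 4 * ((χ ⟨a, hAa⟩ : Ω) * (χ ⟨b, hAb⟩ : Ω)) = ev 10 * _ := t3
    have t4' : 4 * (χ ⟨k * a * k⁻¹, mka⟩ : Ω) = ev 6 * _ := t4
    have t5' : 4 * (χ ⟨k * b * k⁻¹, mkb⟩ : Ω) = ev 7 * _ := t5
    have t6' : 4 * ((χ ⟨k * a * k⁻¹, mka⟩ : Ω) * (χ ⟨k * b * k⁻¹, mkb⟩ : Ω)) = ev 14 * _ := t6
    generalize (χ ⟨a, hAa⟩ : Ω) = X at t1' t3'
    generalize (χ ⟨b, hAb⟩ : Ω) = Y at t2' t3'
    generalize (χ ⟨k * a * k⁻¹, mka⟩ : Ω) = X' at t4' t6'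
    generalize (χ ⟨k * b * k⁻¹, mkb⟩ : Ω) = Y' at t5' t6'
    generalize LinearMap.trace Ω V (ρ a) = ta at t1' t4' n1
    generalize LinearMap.trace Ω V (ρ b) = tb at t2' t5' n2
    generalize LinearMap.trace Ω V (ρ (a * b)) = tab at t3' t6' n3
    rw [v7, hB, one_mul] at t2' t5'
    rw [v10, v9, v8, v7, hB, one_mul] at t3'
    rw [hB, one_mul] at t4'
    rw [v14, v13, v12] at t6'
    -- `ev 1 ta tb = 4 tab`, `ta tb = 4 ev 11 tab`
    have w1 : ev 1 * ta * tb = 4 * tab := by linear_combination 4 * t3' - (4 * Y) * t1' - (ev 1 * ta) * t2'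
    have w2 : ta * tb = 4 * (ev 11 * tab) := by linear_combination 4 * t6' - (4 * Y') * t4' - ta * t5'
    have w3 : 4 * tab * (ev 1 * ev 11 - 1) = 0 := by linear_combination w1 - ev 1 * w2
    exact sub_eq_zero.1 ((mul_eq_zero.1 w3).resolve_left (mul_ne_zero h4 n3))
  have q1 := evsq 1 (by norm_num) (by norm_num)
  have q2 : ev 11 = ev 1 := by linear_combination (ev 1) * hA' - (ev 11) * q1
  have q3 : 2 * ev 1 = 0 := by
    rw [hB, q2] at hC
    linear_combination hC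
  have q4 : ev 1 = 0 := (mul_eq_zero.1 q3).resolve_left h2
  rw [q4] at q1
  norm_num at q1

end

end Cfsg.Agent.H13.M22
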