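import Cfsg.Agent.H13.M22.L34Sub
import Cfsg.Agent.H13.M22.Twelve
import Cfsg.Agent.H13.M22.Stab

/-!
# Cores with socle `M22` in degree ten, odd characteristic (helper13)
-/

set_option autoImplicit false
set_option linter.unusedSectionVars false

namespace Cfsg.Agent.H13.M22

open Module Cfsg Cfsg.Geo H915.LD Cfsg.Agent.H906 Cfsg.Agent.H906.Wt
open Cfsg.Agent.SporadicA.GolayBase Cfsg.Agent.SporadicA.GolayPerm

universe u v w

section irred

variable {L Ω V : Type*} [Group L] [Finite L] [Field Ω] [IsAlgClosed Ω] [AddCommGroup V] [Module Ω V]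
  [FiniteDimensional Ω V] {φ : L →* Spor.M22} {ρ : L →* Module.End Ω V}

/-- the two-point stabiliser is irreducible in degree ten -/
theorem ten_irred (h : Cov φ ρ) (h2 : (2 : Ω) ≠ 0) (hn : finrank Ω V = 10) (W' : Submodule Ω V)
    (hW' : ∀ g ∈ (st (pt 1) ⊓ st (pt 2)).comap φ, ∀ v ∈ W', ρ g v ∈ W') : W' = ⊥ ∨ W' = ⊤ := by
  have hab := E_ab h h2 (Or.inl hn)
  obtain ⟨g5, h5⟩ := h.surj (em s5P)
  obtain ⟨g3, h3⟩ := h.surj (em s3P)
  have hFT := f53.ft h hab h5 h3
  set D : Subgroup L := (st (pt 1) ⊓ st (pt 2)).comap φ with hD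
  have hAD : E22.comap φ ≤ D := Subgroup.comap_mono E22_le_st
  have hFD := hFT.sub D hAD (show φ g5 ∈ _ by rw [h5]; exact s5_mem) (show φ g3 ∈ _ by rw [h3]; exact s3_mem)
  have hcard : (Nat.card ((E22.comap φ).subgroupOf D) : Ω) ≠ 0 := by
    rw [Nat.card_congr (Subgroup.subgroupOfEquivOfLe hAD).toEquiv]
    exact f53.card h h2
  have hns : ∀ χ : (E22.comap φ).subgroupOf D →* Ωˣ, W (rs (ρ.comp D.subtype) ((E22.comap φ).subgroupOf D)) χ ≠ ⊤ := by
    intro χ htop
    obtain ⟨e, he, hne⟩ := f53.ne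
    obtain ⟨f, hf, hef⟩ := f53.u5 e he
    obtain ⟨b, rfl⟩ := h.surj f
    have hb : b ∈ E22.comap φ := hf
    have hbD : b ∈ D := hAD hb
    have hsc : ρ b = (χ ⟨⟨b, hbD⟩, hb⟩ : Ω) • 1 := by
      apply LinearMap.ext
      intro v
      have hv : v ∈ W (rs (ρ.comp D.subtype) ((E22.comap φ).subgroupOf D)) χ := by rw [htop]; trivial
      exact mem_W.1 hv ⟨⟨b, hbD⟩, hb⟩
    have h1 := h.central_of_scalar hsc g5
    apply hne
    rw [hef, ← h5, ← map_mul, ← h1, map_mul]
    group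
  exact hFD.irred (ρ := ρ.comp D.subtype) (fun z hz => h.scal z.1 hz) hcard hns hn W' (fun g => hW' g.1 g.2)

end irred

section sub

variable {ι : Type} [Fintype ι] [DecidableEq ι] {F : Type u} [Field F] {P : Subgroup (GL ι F)}
  {T : Type v} [Group T] (e : Soc P ≃* T)

/-- the subgroup of `GL` over a subgroup of `T` -/
def subG (S : Subgroup T) : Subgroup (GL ι F) := (S.comap (phT e)).map P.subtype

lemma subG_le (S : Subgroup T) : subG e S ≤ P := by
  rintro _ ⟨g, -, rfl⟩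
  exact g.2

lemma mem_subG {S : Subgroup T} {g : P} : (g : GL ι F) ∈ subG e S ↔ phT e g ∈ S := by
  constructor
  · rintro ⟨k, hk, hkg⟩
    have : k = g := Subtype.ext hkg
    rw [← this]; exact hk
  · intro hg
    exact ⟨g, hg, rfl⟩

/-- the projection of the subgroup -/
def subPr (S : Subgroup T) : subG e S →* S where
  toFun g := ⟨phT e ⟨g.1, subG_le e S g.2⟩, (mem_subG e (g := ⟨g.1, subG_le e S g.2⟩)).1 g.2⟩
  map_one' := Subtype.ext (map_one (phT e))
  map_mul' a b := Subtype.ext (map_mul (phT e) ⟨a.1, subG_le e S a.2⟩ ⟨b.1, subG_le e S b.2⟩)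

lemma subPr_surj (S : Subgroup T) : Function.Surjective (subPr e S) := by
  rintro ⟨s, hs⟩
  obtain ⟨g, hg⟩ := phT_surj e s
  refine ⟨⟨g.1, (mem_subG e).2 (by rw [hg]; exact hs)⟩, Subtype.ext ?_⟩
  exact hg

lemma subPr_ker (S : Subgroup T) : (scalars ι F).subgroupOf (subG e S) = (subPr e S).ker := by
  ext g
  have h1 : (⟨g.1, subG_le e S g.2⟩ : P) ∈ (phT e).ker ↔ (g : GL ι F) ∈ scalars ι F := by
    rw [phT_ker e, Subgroup.mem_subgroupOf]
  rw [Subgroup.mem_subgroupOf, ← h1, MonoidHom.mem_ker, MonoidHom.mem_ker]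
  constructor
  · intro h; exact Subtype.ext h
  · intro h; exact congrArg Subtype.val h

/-- the quotient of the subgroup modulo scalars -/
noncomputable def subIso {T' : Type w} [Group T'] (S : Subgroup T) (f : S ≃* T') : Soc (subG e S) ≃* T' :=
  ((QuotientGroup.quotientMulEquivOfEq (subPr_ker e S)).trans
    (QuotientGroup.quotientKerEquivOfSurjective _ (subPr_surj e S))).trans f

end sub

section main

variable {ι : Type} [Fintype ι] [DecidableEq ι] {F : Type u} [Field F] {P : Subgroup (GL ι F)}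

instance finite_M22_inst : Finite Spor.M22 := inferInstance

theorem sq_ker [Finite F] (hC : Core P) (e : Soc P ≃* Spor.M22) (hn : Fintype.card ι = 10) :
    ∀ z ∈ (phT e).ker, z ^ 2 = 1 := by
  intro z hz
  have h1 := phT_pow e hC hz
  rw [hn] at h1
  have hf : Fact (Nat.Prime 5) := ⟨Nat.prime_five⟩
  obtain ⟨t, ht⟩ := exists_prime_orderOf_dvd_card' (G := Spor.M22) 5 (by rw [card_M22]; norm_num)
  have hcop := T14.coprime_ker (phT_surj e) (phT_cen e) hC.commutator_top Nat.prime_five ht (m := 88704)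
    (by rw [card_M22]) (by norm_num)
  have h2 : orderOf z ∣ Nat.card (phT e).ker := by
    have h3 : orderOf (⟨z, hz⟩ : (phT e).ker) ∣ Nat.card (phT e).ker := orderOf_dvd_natCard _
    rwa [← Subgroup.orderOf_coe] at h3
  have h3 : orderOf z ∣ 10 := orderOf_dvd_of_pow_eq_one h1
  have h4 : (orderOf z).Coprime 5 := Nat.Coprime.coprime_dvd_left h2 hcop
  rw [← orderOf_dvd_iff_pow_eq_one]
  have h5 : orderOf z ∣ 5 * 2 := by norm_num; exact h3
  exact h4.dvd_of_dvd_mul_left h5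

/-- **Cores with socle `M22` in degree ten.** -/
theorem ten [Finite F] (p : ℕ) [hp : Fact p.Prime] [CharP F p] (hC : Core P) (hp2 : p ≠ 2)
    (hn : Fintype.card ι = 10) (e : Soc P ≃* Spor.M22) :
    ((p % 7 = 1 ∨ p % 7 = 2 ∨ p % 7 = 4) → Fr P p) ∧ ((p % 7 = 3 ∨ p % 7 = 5 ∨ p % 7 = 6) → Cj P p) ∧
      (p = 7 → SD P ∧ Fr P 7) := by
  classical
  have hfin : Finite P := inferInstance
  have hne := hC.nonempty
  have hz2 := sq_ker hC e hn
  have h2Ω := T14.two_ne (F := F) p hp2 (AlgebraicClosure F)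
  have hcharΩ : CharP (AlgebraicClosure F) p := charP_of_injective_algebraMap (algebraMap F (AlgebraicClosure F)).injective p
  have hcov := core_cov e p
  -- the two subgroups
  have iK : Fintype (GaloisField 2 2) := Fintype.ofFinite _
  have hK : Fintype.card (GaloisField 2 2) = 4 := by
    rw [← Nat.card_eq_fintype_card, GaloisField.card 2 2 (by norm_num)]
    norm_num
  obtain ⟨a1, a2, b1, b2, -⟩ := pt1
  have sub : ∀ q : GolayPt, q ≠ none → q ≠ some 0 →
      ((p % 7 = 1 ∨ p % 7 = 2 ∨ p % 7 = 4) → Fr (subG e (st q)) p) ∧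
      ((p % 7 = 3 ∨ p % 7 = 5 ∨ p % 7 = 6) → Cj (subG e (st q)) p) ∧
      (p = 7 → SD (subG e (st q)) ∧ Fr (subG e (st q)) 7) := by
    intro q hq hq'
    obtain ⟨f⟩ := st_iso hq hq' (GaloisField 2 2) hK
    apply l34_ten' p hp2 hK hn (subIso e (st q) f)
    intro z hz
    have h1 : (z : GL ι F) ∈ scalars ι F := by
      rw [ker_comp, Subgroup.mem_subgroupOf] at hz
      exact hz
    have h2 : (⟨z.1, subG_le e _ z.2⟩ : P) ∈ (phT e).ker := by
      rw [phT_ker e, Subgroup.mem_subgroupOf]; exact h1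
    have h3 := hz2 _ h2
    exact Subtype.ext (congrArg (fun y : P => (y : GL ι F)) h3)
  have sa := sub (pt 1) a1 a2
  have sb := sub (pt 2) b1 b2
  let H1 : Subgroup P := (st (pt 1)).comap (phT e)
  let H2 : Subgroup P := (st (pt 2)).comap (phT e)
  let D : Subgroup P := (st (pt 1) ⊓ st (pt 2)).comap (phT e)
  have d1 : D ≤ H1 := Subgroup.comap_mono inf_le_left
  have d2 : D ≤ H2 := Subgroup.comap_mono inf_le_right
  have hgen : H1 ⊔ H2 = ⊤ := by
    change (st (pt 1)).comap (phT e) ⊔ (st (pt 2)).comap (phT e) = ⊤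
    rw [Subgroup.comap_sup_eq _ _ _ (phT_surj e), st_sup, Subgroup.comap_top]
  have m1 : ∀ g ∈ H1, (g : GL ι F) ∈ subG e (st (pt 1)) := fun g hg => (mem_subG e).2 hg
  have m2 : ∀ g ∈ H2, (g : GL ι F) ∈ subG e (st (pt 2)) := fun g hg => (mem_subG e).2 hg
  have hspan : Submodule.span (AlgebraicClosure F) (T14.mrep P '' (D : Set P)) = ⊤ := by
    apply span_of_irred
    intro W' hW'
    exact ten_irred hcov h2Ω (finrank_rep hn) W' hW'
  let Ω := AlgebraicClosure F
  let σ : Ω ≃+* Ω := frobeniusEquiv Ω p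
  have hσ : ∀ x : Ω, σ x = x ^ p := fun x => rfl
  have sT : ∀ τ : Ω ≃+* Ω, Submodule.span Ω (twist τ (T14.mrep P) '' (D : Set P)) = ⊤ := by
    intro τ
    rw [← T14.range_image] at hspan ⊢
    have h1 := span_twist τ hspan
    have h3 : twist τ ((T14.mrep P).comp D.subtype) = (twist τ (T14.mrep P)).comp D.subtype :=
      MonoidHom.ext fun _ => rfl
    rwa [h3] at h1
  have sC : Submodule.span Ω (contra (T14.mrep P) '' (D : Set P)) = ⊤ := by
    rw [← T14.range_image] at hspan ⊢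
    have h1 := span_contra hspan
    have h3 : contra ((T14.mrep P).comp D.subtype) = (contra (T14.mrep P)).comp D.subtype :=
      MonoidHom.ext fun _ => rfl
    rwa [h3] at h1
  have tT : ∀ (τ : Ω ≃+* Ω) (g : P), (twist τ (T14.mrep P) g).trace = τ (algebraMap F Ω (tr (g : GL ι F))) := by
    intro τ g
    rw [twist_apply, map_trace', T14.trace_mrep]
  have tC : ∀ g : P, (contra (T14.mrep P) g).trace = algebraMap F Ω (tr ((g : GL ι F)⁻¹)) := by
    intro g
    rw [contra_apply, Matrix.trace_transpose, T14.trace_mrep]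
    rfl
  have inj := (algebraMap F Ω).injective
  refine ⟨?_, ?_, ?_⟩
  · intro h3 g hg
    have h4 := glue D H1 H2 d1 d2 hgen (sT σ) hspan (fun g hg => by
      rw [tT, T14.trace_mrep, hσ, ← map_pow, sa.1 h3 g (m1 g hg)]) (fun g hg => by
      rw [tT, T14.trace_mrep, hσ, ← map_pow, sb.1 h3 g (m2 g hg)]) ⟨g, hg⟩
    rw [tT, T14.trace_mrep, hσ, ← map_pow] at h4
    exact inj h4
  · intro h3 g hg
    have h4 := glue D H1 H2 d1 d2 hgen (sT σ) sC (fun g hg => by
      rw [tT, tC, hσ, ← map_pow, sa.2.1 h3 g (m1 g hg)]) (fun g hg => by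
      rw [tT, tC, hσ, ← map_pow, sb.2.1 h3 g (m2 g hg)]) ⟨g, hg⟩
    rw [tT, tC, hσ, ← map_pow] at h4
    exact inj h4
  · rintro rfl
    constructor
    · intro g hg
      have h4 := glue D H1 H2 d1 d2 hgen sC hspan (fun g hg => by
        rw [tC, T14.trace_mrep, (sa.2.2 rfl).1 g (m1 g hg)]) (fun g hg => by
        rw [tC, T14.trace_mrep, (sb.2.2 rfl).1 g (m2 g hg)]) ⟨g, hg⟩
      rw [tC, T14.trace_mrep] at h4
      exact inj h4
    · intro g hg
      have h4 := glue D H1 H2 d1 d2 hgen (sT σ) hspan (fun g hg => by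
        rw [tT, T14.trace_mrep, hσ, ← map_pow, (sa.2.2 rfl).2 g (m1 g hg)]) (fun g hg => by
        rw [tT, T14.trace_mrep, hσ, ← map_pow, (sb.2.2 rfl).2 g (m2 g hg)]) ⟨g, hg⟩
      rw [tT, T14.trace_mrep, hσ, ← map_pow] at h4
      exact inj h4

end main

end Cfsg.Agent.H13.M22
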